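import Groth.Agent.H14EtSub.Tests

/-!
# The étale subschemes of a smooth algebra are schematically dense
-/

set_option autoImplicit false
set_option linter.style.haveILetI false
set_option backward.isDefEq.respectTransparency false
set_option backward.isDefEq.respectTransparency.types false

universe u

open CategoryTheory AlgebraicGeometry TensorProduct

namespace Groth.Agent.H14EtSub

theorem tmul_one_eq_zero_iff {A N : Type u} [CommRing A] [CommRing N] [Algebra A N] (I : Ideal A) (x : N) :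
    (1 : A ⧸ I) ⊗ₜ[A] x = 0 ↔ x ∈ I.map (algebraMap A N) := by
  rw [← (TensorProduct.quotTensorEquivQuotSMul N I).map_eq_zero_iff]
  have : (TensorProduct.quotTensorEquivQuotSMul N I) ((1 : A ⧸ I) ⊗ₜ[A] x) = Submodule.Quotient.mk x := by
    rw [← map_one (Ideal.Quotient.mk I), TensorProduct.quotTensorEquivQuotSMul_mk_tmul, one_smul]
  rw [this, Submodule.Quotient.mk_eq_zero, Ideal.smul_top_eq_map]
  rfl

theorem tmul_one_surjective {A N : Type u} [CommRing A] [CommRing N] [Algebra A N] (I : Ideal A)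
    (z : (A ⧸ I) ⊗[A] N) : ∃ x : N, (1 : A ⧸ I) ⊗ₜ[A] x = z := by
  induction z using TensorProduct.induction_on with
  | zero => exact ⟨0, TensorProduct.tmul_zero _ _⟩
  | tmul a n =>
    obtain ⟨a, rfl⟩ := Ideal.Quotient.mk_surjective a
    refine ⟨a • n, ?_⟩
    rw [TensorProduct.tmul_smul, TensorProduct.smul_tmul']
    congr 1
    rw [Algebra.smul_def, mul_one, Ideal.Quotient.algebraMap_eq]
  | add z w hz hw =>
    obtain ⟨a, rfl⟩ := hz
    obtain ⟨b, rfl⟩ := hw
    exact ⟨a + b, TensorProduct.tmul_add _ _ _⟩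

/-- Tests detect elements, modulo all powers of a maximal ideal. -/
theorem mem_map_pow_of_forall_test {A B : Type u} [CommRing A] [Algebra.FiniteType ℤ A] [CommRing B]
    [Algebra A B] [Algebra.Smooth A B] (m : Ideal A) [m.IsMaximal] (t : B)
    (h : ∀ (C : Type u) [CommRing C] [Algebra A C] (φ : B →ₐ[A] C), IsTest φ → φ t = 0) (k : ℕ) :
    t ∈ (m ^ k).map (algebraMap A B) := by
  classical
  induction k with
  | zero => simp [Ideal.map_top]
  | succ k ih =>
    let N := A ⧸ m ^ (k + 1)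
    let W : Submodule A N := Submodule.map (Submodule.mkQ (m ^ (k + 1))) (m ^ k : Ideal A)
    -- `t` comes from `W ⊗ B`
    have hz : (1 : N) ⊗ₜ[A] t ∈ LinearMap.range (W.subtype.rTensor B) := by
      have h1 : t ∈ (m ^ k) • (⊤ : Submodule A B) := by
        rw [Ideal.smul_top_eq_map]; exact ih
      refine Submodule.smul_induction_on h1 (fun a ha b _ ↦ ?_) fun x y hx hy ↦ ?_
      · refine ⟨(⟨Submodule.Quotient.mk a, a, ha, rfl⟩ : W) ⊗ₜ b, ?_⟩
        rw [LinearMap.rTensor_tmul, TensorProduct.tmul_smul, TensorProduct.smul_tmul']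
        congr 1
        show Submodule.Quotient.mk a = a • (1 : N)
        rw [Algebra.smul_def, mul_one]
        rfl
      · rw [TensorProduct.tmul_add]; exact add_mem hx hy
    obtain ⟨z, hz⟩ := hz
    -- `W` is a vector space over the residue field
    letI : Field (A ⧸ m) := Ideal.Quotient.field m
    have htors : Module.IsTorsionBySet A W (m : Set A) := by
      rintro ⟨w, a, ha, rfl⟩ ⟨c, hc⟩
      apply Subtype.ext
      show c • Submodule.Quotient.mk a = (0 : N)
      rw [← Submodule.Quotient.mk_smul, Submodule.Quotient.mk_eq_zero]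
      rw [pow_succ, mul_comm]
      exact Ideal.mul_mem_mul hc ha
    letI : Module (A ⧸ m) W := htors.module
    haveI : IsScalarTower A (A ⧸ m) W := htors.isScalarTower
    haveI : IsNoetherianRing A := Algebra.FiniteType.isNoetherianRing ℤ A
    haveI : Module.Finite A W := inferInstance
    haveI : Module.Finite (A ⧸ m) W := Module.Finite.of_restrictScalars_finite A (A ⧸ m) W
    let bs := Module.finBasis (A ⧸ m) W
    let ℓ : _ → (W →ₗ[A] A ⧸ m) := fun j ↦ (bs.coord j).restrictScalars A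
    let ι : _ → (A ⧸ m →ₗ[A] W) := fun j ↦
      (LinearMap.toSpanSingleton (A ⧸ m) W (bs j)).restrictScalars A
    have hid : (LinearMap.id : W →ₗ[A] W) = ∑ j, (ι j).comp (ℓ j) := by
      refine LinearMap.ext fun w ↦ ?_
      simp only [LinearMap.id_coe, id_eq, LinearMap.sum_apply, LinearMap.comp_apply, ι, ℓ,
        LinearMap.restrictScalars_apply, LinearMap.toSpanSingleton_apply, Module.Basis.coord_apply]
      exact (bs.sum_repr w).symm
    have hzero : z = 0 := by
      have : z = (LinearMap.id : W →ₗ[A] W).rTensor B z := by simp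
      rw [this, hid]
      rw [← LinearMap.coe_rTensorHom, map_sum, LinearMap.sum_apply]
      refine Finset.sum_eq_zero fun j _ ↦ ?_
      rw [LinearMap.coe_rTensorHom]
      obtain ⟨y, hy⟩ := tmul_one_surjective m ((ℓ j).rTensor B z)
      show ((ι j).comp (ℓ j)).rTensor B z = 0
      rw [LinearMap.rTensor_comp, LinearMap.comp_apply, ← hy]
      suffices hy0 : y ∈ m.map (algebraMap A B) by
        rw [(tmul_one_eq_zero_iff m y).2 hy0, map_zero]
      refine mem_map_of_forall_test m y fun C _ _ φ hφ ↦ ?_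
      haveI := hφ.etale
      refine (tmul_one_eq_zero_iff m (φ y)).1 ?_
      have hC : φ.toLinearMap.lTensor W z = 0 := by
        apply Module.Flat.rTensor_preserves_injective_linearMap (M := C) W.subtype W.injective_subtype
        rw [map_zero, ← LinearMap.comp_apply, LinearMap.rTensor_comp_lTensor,
          ← LinearMap.lTensor_comp_rTensor, LinearMap.comp_apply, hz, LinearMap.lTensor_tmul]
        show (1 : N) ⊗ₜ[A] φ t = 0
        rw [h C φ hφ, TensorProduct.tmul_zero]
      show φ.toLinearMap.lTensor (A ⧸ m) ((1 : A ⧸ m) ⊗ₜ y) = 0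
      rw [hy, ← LinearMap.comp_apply, LinearMap.lTensor_comp_rTensor,
        ← LinearMap.rTensor_comp_lTensor, LinearMap.comp_apply, hC, map_zero]
    rw [← tmul_one_eq_zero_iff, ← hz, hzero, map_zero]

/-- Tests detect elements over a base of finite type over `ℤ`. -/
theorem eq_zero_of_forall_test_of_finiteType {A B : Type u} [CommRing A] [Algebra.FiniteType ℤ A]
    [CommRing B] [Algebra A B] [Algebra.Smooth A B] (t : B)
    (h : ∀ (C : Type u) [CommRing C] [Algebra A C] (φ : B →ₐ[A] C), IsTest φ → φ t = 0) : t = 0 := by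
  haveI : IsNoetherianRing A := Algebra.FiniteType.isNoetherianRing ℤ A
  haveI : IsNoetherianRing B := Algebra.FiniteType.isNoetherianRing A B
  haveI : Algebra.FiniteType ℤ B := Algebra.FiniteType.trans (S := A) inferInstance inferInstance
  by_contra ht
  have hne : (Submodule.span B {t}).annihilator ≠ ⊤ := by
    intro htop
    have h1 : (1 : B) ∈ (Submodule.span B {t}).annihilator := htop ▸ trivial
    rw [Submodule.mem_annihilator_span_singleton, one_smul] at h1
    exact ht h1
  obtain ⟨Q, hQ, hle⟩ := Ideal.exists_le_maximal _ hne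
  haveI := hQ
  haveI : Algebra.FiniteType ℤ (B ⧸ Q) :=
    Algebra.FiniteType.of_surjective (Ideal.Quotient.mkₐ ℤ Q) Ideal.Quotient.mk_surjective
  letI : Field (B ⧸ Q) := Ideal.Quotient.field Q
  haveI : Finite (B ⧸ Q) := H27Zeta.finite_of_field_finiteType_int _
  let m : Ideal A := Q.comap (algebraMap A B)
  haveI : m.IsPrime := Ideal.IsPrime.comap _
  haveI : Finite (A ⧸ m) := Finite.of_injective (Ideal.quotientMap Q (algebraMap A B) le_rfl)
    Ideal.quotientMap_injective
  haveI : m.IsMaximal :=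
    Ideal.Quotient.maximal_of_isField m (Finite.isField_of_domain (A ⧸ m))
  have hmem : t ∈ (⨅ i : ℕ, Q ^ i • ⊤ : Submodule B B) := by
    rw [Submodule.mem_iInf]
    intro i
    rw [Ideal.smul_eq_mul, Ideal.mul_top]
    exact Ideal.pow_right_mono Ideal.map_comap_le i
      ((Ideal.map_pow (algebraMap A B) m i) ▸ mem_map_pow_of_forall_test m t h i)
  obtain ⟨⟨r, hr⟩, hrt⟩ := (Ideal.mem_iInf_smul_pow_eq_bot_iff Q t).mp hmem
  have h2 : (1 - r) ∈ (Submodule.span B {t}).annihilator := by
    rw [Submodule.mem_annihilator_span_singleton, sub_smul, one_smul, sub_eq_zero]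
    exact hrt.symm
  have : (1 : B) ∈ Q := by simpa using Q.add_mem (hle h2) hr
  exact hQ.ne_top ((Ideal.eq_top_iff_one Q).mpr this)

/-- Base change of a test. -/
theorem isTest_baseChange {A B A₀' B₀ C₀ : Type u} [CommRing A] [CommRing B] [Algebra A B]
    [CommRing A₀'] [Algebra A₀' A] [CommRing B₀] [Algebra A₀' B₀] [CommRing C₀] [Algebra A₀' C₀]
    (φ₀ : B₀ →ₐ[A₀'] C₀) (hφ₀ : IsTest φ₀) (d : A ⊗[A₀'] B₀ ≃ₐ[A] B) :
    IsTest ((Algebra.TensorProduct.map (AlgHom.id A A) φ₀).comp d.symm.toAlgHom) := by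
  let φ : B →ₐ[A] A ⊗[A₀'] C₀ :=
    (Algebra.TensorProduct.map (AlgHom.id A A) φ₀).comp d.symm.toAlgHom
  haveI := hφ₀.etale
  refine ⟨inferInstance, ?_⟩
  obtain ⟨ψ, hψ⟩ : ∃ ψ : B ≃+* (A ⊗[A₀'] B₀), ∀ b, ψ b = d.symm b :=
    ⟨d.symm.toRingEquiv, fun _ ↦ rfl⟩
  have : CommRingCat.ofHom φ.toRingHom = ψ.toCommRingCatIso.hom ≫
      CommRingCat.ofHom (Algebra.TensorProduct.map (AlgHom.id A A) φ₀).toRingHom := by
    ext b
    show Algebra.TensorProduct.map (AlgHom.id A A) φ₀ (d.symm b) =
      Algebra.TensorProduct.map (AlgHom.id A A) φ₀ (ψ b)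
    rw [hψ]
  rw [this, Spec.map_comp]
  let m := Algebra.TensorProduct.map (AlgHom.id A A) φ₀
  have hs := (isPullback_SpecMap_of_isPushout _ _ _ _
    (CommRingCat.isPushout_tensorProduct A₀' A C₀)).flip
  have ht' := (isPullback_SpecMap_of_isPushout _ _ _ _
    (CommRingCat.isPushout_tensorProduct A₀' A B₀)).flip
  have hsq : IsPullback (Spec.map (CommRingCat.ofHom m.toRingHom))
      (Spec.map (CommRingCat.ofHom
        (Algebra.TensorProduct.includeRight (R := A₀') (A := A) (B := C₀)).toRingHom))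
      (Spec.map (CommRingCat.ofHom
        (Algebra.TensorProduct.includeRight (R := A₀') (A := A) (B := B₀)).toRingHom))
      (Spec.map (CommRingCat.ofHom φ₀.toRingHom)) := by
    have e1 : CommRingCat.ofHom (Algebra.TensorProduct.includeLeftRingHom : A →+* A ⊗[A₀'] B₀) ≫
        CommRingCat.ofHom m.toRingHom =
          CommRingCat.ofHom (Algebra.TensorProduct.includeLeftRingHom : A →+* A ⊗[A₀'] C₀) := by
      ext x
      show m (x ⊗ₜ 1) = x ⊗ₜ 1
      simp [m]
    have e2 : CommRingCat.ofHom (algebraMap A₀' B₀) ≫ CommRingCat.ofHom φ₀.toRingHom =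
        CommRingCat.ofHom (algebraMap A₀' C₀) := by
      ext x
      exact φ₀.commutes x
    refine IsPullback.of_right ?_ ?_ ht'.flip
    · rw [← Spec.map_comp, ← Spec.map_comp, e1, e2]
      exact hs.flip
    · rw [← Spec.map_comp, ← Spec.map_comp]
      congr 1
  haveI : IsImmersion (Spec.map (CommRingCat.ofHom m.toRingHom)) :=
    MorphismProperty.of_isPullback (P := @IsImmersion) hsq.flip hφ₀.immersion
  infer_instance

/-- **Schematic density of étale subschemes** of a smooth algebra, over any base. -/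
theorem eq_zero_of_forall_test {A B : Type u} [CommRing A] [CommRing B] [Algebra A B]
    [Algebra.Smooth A B] (t : B)
    (h : ∀ (C : Type u) [CommRing C] [Algebra A C] (φ : B →ₐ[A] C), IsTest φ → φ t = 0) : t = 0 := by
  classical
  obtain ⟨A₁, B₁, _, _, hA₁, hsm₁, ⟨e⟩⟩ := Algebra.Smooth.exists_subalgebra_fg (R := ℤ) (A := A) (B := B)
  haveI := hsm₁
  obtain ⟨S, hS⟩ := TensorProduct.exists_finset (e t)
  let A₀ : Subalgebra ℤ A := A₁ ⊔ Algebra.adjoin ℤ (S.image Prod.fst : Set A)
  have hA₀ : A₀.FG := hA₁.sup (Subalgebra.fg_adjoin_finset _)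
  haveI : Algebra.FiniteType ℤ A₀ := (Subalgebra.fg_iff_finiteType A₀).mp hA₀
  letI : Algebra A₁ A₀ := (Subalgebra.inclusion (le_sup_left : A₁ ≤ A₀)).toRingHom.toAlgebra
  haveI : IsScalarTower A₁ A₀ A := IsScalarTower.of_algebraMap_eq fun _ ↦ rfl
  let B₀ := A₀ ⊗[A₁] B₁
  haveI : Algebra.Smooth A₀ B₀ := inferInstance
  let d : A ⊗[A₀] B₀ ≃ₐ[A] B := (Algebra.TensorProduct.cancelBaseChange A₁ A₀ A A B₁).trans e.symm
  have hmem : ∀ x ∈ S, x.1 ∈ A₀ := fun x hx ↦
    (le_sup_right : _ ≤ A₀) (Algebra.subset_adjoin (Finset.mem_image_of_mem _ hx))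
  let t₀ : B₀ := ∑ x ∈ S.attach, (⟨x.1.1, hmem x.1 x.2⟩ : A₀) ⊗ₜ[A₁] x.1.2
  have ht : d (1 ⊗ₜ t₀) = t := by
    apply e.injective
    show e (e.symm (Algebra.TensorProduct.cancelBaseChange A₁ A₀ A A B₁ (1 ⊗ₜ t₀))) = e t
    rw [AlgEquiv.apply_symm_apply, hS, ← Finset.sum_attach S, TensorProduct.tmul_sum, map_sum]
    refine Finset.sum_congr rfl fun x _ ↦ ?_
    rw [Algebra.TensorProduct.cancelBaseChange_tmul]
    congr 1
    exact (Algebra.smul_def _ _).trans (mul_one _)
  suffices h0 : t₀ = 0 by rw [← ht, h0, TensorProduct.tmul_zero, map_zero]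
  refine eq_zero_of_forall_test_of_finiteType (A := A₀) (B := B₀) t₀ fun C₀ _ _ φ₀ hφ₀ ↦ ?_
  haveI := hφ₀.etale
  let C := A ⊗[A₀] C₀
  let φ : B →ₐ[A] C :=
    (Algebra.TensorProduct.map (AlgHom.id A A) φ₀).comp d.symm.toAlgHom
  have htest : IsTest φ := isTest_baseChange φ₀ hφ₀ d
  have := h C φ htest
  have h1 : (1 : A) ⊗ₜ[A₀] φ₀ t₀ = (0 : C) := by
    rw [← this, ← ht]
    show _ = Algebra.TensorProduct.map (AlgHom.id A A) φ₀ (d.symm (d (1 ⊗ₜ t₀)))
    rw [AlgEquiv.symm_apply_apply]
    rfl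
  exact Algebra.TensorProduct.includeRight_injective
    (A := A) (B := C₀) Subtype.val_injective
    (h1.trans (TensorProduct.tmul_zero _ _).symm)

end Groth.Agent.H14EtSub
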