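import Groth.Agent.H14EtSub.Dense
import Groth.Agent.H7Flat.FibreIndependence
import Groth.Agent.H13Flat.Algebra

/-!
# The étale subschemes stay schematically dense after a flat base change of finite presentation
-/

set_option autoImplicit false
set_option linter.style.haveILetI false
set_option backward.isDefEq.respectTransparency false
set_option backward.isDefEq.respectTransparency.types false

universe u

open CategoryTheory AlgebraicGeometry TensorProduct

namespace Groth.Agent.H14EtSub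

/-- An element all of whose images along a family of maps into flat algebras vanish lies in every power
of an ideal, once this holds for the first power. -/
theorem mem_map_pow_of_criterion {A D : Type u} [CommRing A] [IsNoetherianRing A] [CommRing D]
    [Algebra A D] (m : Ideal A) [m.IsMaximal] (t : D) {ι : Type*} (E : ι → Type u)
    [∀ i, CommRing (E i)] [∀ i, Algebra A (E i)] [∀ i, Module.Flat A (E i)]
    (φ : ∀ i, D →ₐ[A] E i) (h : ∀ i, φ i t = 0)
    (hcrit : ∀ y : D, (∀ i, φ i y ∈ m.map (algebraMap A (E i))) → y ∈ m.map (algebraMap A D))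
    (k : ℕ) : t ∈ (m ^ k).map (algebraMap A D) := by
  classical
  induction k with
  | zero => simp [Ideal.map_top]
  | succ k ih =>
    let N := A ⧸ m ^ (k + 1)
    let W : Submodule A N := Submodule.map (Submodule.mkQ (m ^ (k + 1))) (m ^ k : Ideal A)
    have hz : (1 : N) ⊗ₜ[A] t ∈ LinearMap.range (W.subtype.rTensor D) := by
      have h1 : t ∈ (m ^ k) • (⊤ : Submodule A D) := by
        rw [Ideal.smul_top_eq_map]; exact ih
      refine Submodule.smul_induction_on h1 (fun a ha b _ ↦ ?_) fun x y hx hy ↦ ?_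
      · refine ⟨(⟨Submodule.Quotient.mk a, a, ha, rfl⟩ : W) ⊗ₜ b, ?_⟩
        rw [LinearMap.rTensor_tmul, TensorProduct.tmul_smul, TensorProduct.smul_tmul']
        congr 1
        show Submodule.Quotient.mk a = a • (1 : N)
        rw [Algebra.smul_def, mul_one]
        rfl
      · rw [TensorProduct.tmul_add]; exact add_mem hx hy
    obtain ⟨z, hz⟩ := hz
    letI : Field (A ⧸ m) := Ideal.Quotient.field m
    have htors : Module.IsTorsionBySet A W (m : Set A) := by
      rintro ⟨w, a, ha, rfl⟩ ⟨c, hc⟩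
      apply Subtype.ext
      show c • Submodule.Quotient.mk a = (0 : N)
      rw [← Submodule.Quotient.mk_smul, Submodule.Quotient.mk_eq_zero]
      rw [pow_succ, mul_comm]
      exact Ideal.mul_mem_mul hc ha
    letI : Module (A ⧸ m) W := htors.module
    haveI : IsScalarTower A (A ⧸ m) W := htors.isScalarTower
    haveI : Module.Finite A W := inferInstance
    haveI : Module.Finite (A ⧸ m) W := Module.Finite.of_restrictScalars_finite A (A ⧸ m) W
    let bs := Module.finBasis (A ⧸ m) W
    let ℓ : _ → (W →ₗ[A] A ⧸ m) := fun j ↦ (bs.coord j).restrictScalars A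
    let ι' : _ → (A ⧸ m →ₗ[A] W) := fun j ↦
      (LinearMap.toSpanSingleton (A ⧸ m) W (bs j)).restrictScalars A
    have hid : (LinearMap.id : W →ₗ[A] W) = ∑ j, (ι' j).comp (ℓ j) := by
      refine LinearMap.ext fun w ↦ ?_
      simp only [LinearMap.id_coe, id_eq, LinearMap.sum_apply, LinearMap.comp_apply, ι', ℓ,
        LinearMap.restrictScalars_apply, LinearMap.toSpanSingleton_apply, Module.Basis.coord_apply]
      exact (bs.sum_repr w).symm
    have hzero : z = 0 := by
      have : z = (LinearMap.id : W →ₗ[A] W).rTensor D z := by simp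
      rw [this, hid]
      rw [← LinearMap.coe_rTensorHom, map_sum, LinearMap.sum_apply]
      refine Finset.sum_eq_zero fun j _ ↦ ?_
      rw [LinearMap.coe_rTensorHom]
      obtain ⟨y, hy⟩ := tmul_one_surjective m ((ℓ j).rTensor D z)
      show ((ι' j).comp (ℓ j)).rTensor D z = 0
      rw [LinearMap.rTensor_comp, LinearMap.comp_apply, ← hy]
      suffices hy0 : y ∈ m.map (algebraMap A D) by
        rw [(tmul_one_eq_zero_iff m y).2 hy0, map_zero]
      refine hcrit y fun i ↦ (tmul_one_eq_zero_iff m (φ i y)).1 ?_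
      have hC : (φ i).toLinearMap.lTensor W z = 0 := by
        apply Module.Flat.rTensor_preserves_injective_linearMap (M := E i) W.subtype W.injective_subtype
        rw [map_zero, ← LinearMap.comp_apply, LinearMap.rTensor_comp_lTensor,
          ← LinearMap.lTensor_comp_rTensor, LinearMap.comp_apply, hz, LinearMap.lTensor_tmul]
        show (1 : N) ⊗ₜ[A] φ i t = 0
        rw [h i, TensorProduct.tmul_zero]
      show (φ i).toLinearMap.lTensor (A ⧸ m) ((1 : A ⧸ m) ⊗ₜ y) = 0
      rw [hy, ← LinearMap.comp_apply, LinearMap.lTensor_comp_rTensor,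
        ← LinearMap.rTensor_comp_lTensor, LinearMap.comp_apply, hC, map_zero]
    rw [← tmul_one_eq_zero_iff, ← hz, hzero, map_zero]

/-- A field of finite type over `ℤ` below: comaps of maximal ideals along maps of finite-type rings are
maximal. -/
theorem isMaximal_comap_int {R S : Type u} [CommRing R] [CommRing S] [Algebra.FiniteType ℤ S]
    (f : R →+* S) (Q : Ideal S) [Q.IsMaximal] : (Q.comap f).IsMaximal := by
  haveI : Algebra.FiniteType ℤ (S ⧸ Q) :=
    Algebra.FiniteType.of_surjective (Ideal.Quotient.mkₐ ℤ Q) Ideal.Quotient.mk_surjective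
  letI : Field (S ⧸ Q) := Ideal.Quotient.field Q
  haveI : Finite (S ⧸ Q) := H27Zeta.finite_of_field_finiteType_int _
  haveI : (Q.comap f).IsPrime := Ideal.IsPrime.comap _
  haveI : Finite (R ⧸ Q.comap f) := Finite.of_injective (Ideal.quotientMap Q f le_rfl)
    Ideal.quotientMap_injective
  exact Ideal.Quotient.maximal_of_isField _ (Finite.isField_of_domain _)

/-- The same, with the finite type assumption on the ring map out of `ℤ`. -/
theorem isMaximal_comap_int' {R S : Type u} [CommRing R] [CommRing S]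
    (f : R →+* S) (Q : Ideal S) [Q.IsMaximal] (hS : (Int.castRingHom S).FiniteType) :
    (Q.comap f).IsMaximal := by
  haveI : Algebra.FiniteType ℤ S :=
    RingHom.finiteType_algebraMap.mp ((RingHom.ext_int (Int.castRingHom S) (algebraMap ℤ S)) ▸ hS)
  exact isMaximal_comap_int f Q

/-- In a flat algebra of finite type over a ring of finite type over `ℤ`, the closed fibres over a
radical ideal detect its extension. -/
theorem mem_map_of_forall_maximal {B D : Type u} [CommRing B] [Algebra.FiniteType ℤ B] [CommRing D]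
    [Algebra B D] [Algebra.FiniteType B D] [Module.Flat B D] (J : Ideal B) (hJ : J.IsRadical) (y : D)
    (h : ∀ Q : Ideal B, Q.IsMaximal → J ≤ Q → y ∈ Q.map (algebraMap B D)) :
    y ∈ J.map (algebraMap B D) := by
  classical
  haveI : IsJacobsonRing ℤ := Groth.Agent.S9612.result
  haveI : IsNoetherianRing B := Algebra.FiniteType.isNoetherianRing ℤ B
  have hprime : ∀ P ∈ J.minimalPrimes, y ∈ P.map (algebraMap B D) := by
    intro P hP
    haveI : P.IsPrime := hP.1.1
    obtain ⟨f, hf, F, _, _, _, _, ψ, hfree, hψ⟩ :=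
      H7Flat.FibreIndependence.exists_away_free_baseChange (B ⧸ P) (R := B) (S := D) (M := D)
    let Rf := Localization.Away f
    haveI : Algebra.FiniteType ℤ (B ⧸ P) :=
      Algebra.FiniteType.of_surjective (Ideal.Quotient.mkₐ ℤ P) Ideal.Quotient.mk_surjective
    haveI : Algebra.FiniteType (B ⧸ P) Rf := IsLocalization.finiteType_of_monoid_fg (Submonoid.powers f) Rf
    haveI hftRf : Algebra.FiniteType ℤ Rf :=
      Algebra.FiniteType.trans (R := ℤ) (S := B ⧸ P) (A := Rf) inferInstance inferInstance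
    haveI : IsJacobsonRing Rf := isJacobsonRing_of_finiteType (A := ℤ)
    haveI : IsDomain Rf :=
      IsLocalization.isDomain_localization (powers_le_nonZeroDivisors_of_noZeroDivisors hf)
    have hψy : ψ y = 0 := by
      let bF := Module.Free.chooseBasis Rf F
      refine bF.repr.injective (Finsupp.ext fun i ↦ ?_)
      rw [map_zero, Finsupp.zero_apply, ← Ideal.mem_bot,
        ← IsJacobsonRing.out inferInstance (Ideal.isRadical_bot (R := Rf)), Ideal.jacobson,
        Ideal.mem_sInf]
      rintro Q' ⟨-, hQ'⟩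
      haveI := hQ'
      let Q := Q'.comap (algebraMap B Rf)
      haveI : Q.IsMaximal :=
        isMaximal_comap_int' (algebraMap B Rf) Q'
          ((RingHom.ext_int (algebraMap ℤ Rf) (Int.castRingHom Rf)) ▸ RingHom.finiteType_algebraMap.mpr hftRf)
      have hJQ : J ≤ Q := fun b hb ↦ by
        show algebraMap B Rf b ∈ Q'
        rw [IsScalarTower.algebraMap_apply B (B ⧸ P) Rf, Ideal.Quotient.algebraMap_eq,
          Ideal.Quotient.eq_zero_iff_mem.mpr (hP.1.2 hb), map_zero]
        exact zero_mem _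
      have hy : y ∈ Q • (⊤ : Submodule B D) := by
        rw [Ideal.smul_top_eq_map]; exact h Q inferInstance hJQ
      clear_value bF
      refine Submodule.smul_induction_on (p := fun x ↦ bF.repr (ψ x) i ∈ Q') hy
        (fun b hb x _ ↦ ?_) fun x z hx hz ↦ ?_
      · rw [map_smul, ← algebraMap_smul Rf b (ψ x), map_smul, Finsupp.smul_apply, smul_eq_mul]
        exact Q'.mul_mem_right _ hb
      · simp only [map_add, Finsupp.add_apply]
        exact add_mem hx hz
    rw [← tmul_one_eq_zero_iff]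
    have hinj : Function.Injective (algebraMap (B ⧸ P) Rf) :=
      IsLocalization.injective Rf (powers_le_nonZeroDivisors_of_noZeroDivisors hf)
    apply Module.Flat.rTensor_preserves_injective_linearMap (M := D)
      (IsScalarTower.toAlgHom B (B ⧸ P) Rf).toLinearMap hinj
    rw [map_zero, LinearMap.rTensor_tmul]
    apply hψ.equiv.injective
    rw [map_zero]
    show hψ.equiv ((algebraMap (B ⧸ P) Rf 1) ⊗ₜ[B] y) = 0
    rw [map_one, IsBaseChange.equiv_tmul, one_smul, hψy]
  -- finitely many minimal primes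
  haveI : Fintype ↥J.minimalPrimes := (Ideal.finite_minimalPrimes_of_isNoetherianRing B J).fintype
  let Δ : (B ⧸ J) →ₗ[B] ∀ P : ↥J.minimalPrimes, B ⧸ P.1 :=
    LinearMap.pi fun P ↦ Submodule.factor P.2.1.2
  have hΔ : Function.Injective Δ := by
    rw [injective_iff_map_eq_zero]
    intro x hx
    obtain ⟨b, rfl⟩ := Submodule.Quotient.mk_surjective J x
    refine (Submodule.Quotient.mk_eq_zero J).2 ?_
    have : b ∈ sInf J.minimalPrimes := Ideal.mem_sInf.mpr fun {P} hP ↦
      (Submodule.Quotient.mk_eq_zero P).1 (congrFun hx ⟨P, hP⟩)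
    rw [Ideal.sInf_minimalPrimes, hJ.radical] at this
    exact this
  rw [← tmul_one_eq_zero_iff]
  apply Module.Flat.rTensor_preserves_injective_linearMap (M := D) Δ hΔ
  apply (TensorProduct.comm B _ D).injective
  apply (TensorProduct.piRight B B D _).injective
  ext P
  rw [map_zero, map_zero, map_zero, LinearMap.rTensor_tmul, TensorProduct.comm_tmul,
    TensorProduct.piRight_apply, TensorProduct.piRightHom_tmul]
  apply (TensorProduct.comm B D _).injective
  rw [TensorProduct.comm_tmul]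
  exact ((tmul_one_eq_zero_iff P.1 y).2 (hprime P.1 P.2)).trans (map_zero _).symm

/-- Base over `ℤ` of finite type. -/
theorem eq_zero_of_forall_test_flat_of_finiteType {A B D : Type u} [CommRing A] [Algebra.FiniteType ℤ A]
    [CommRing B] [Algebra A B] [Algebra.Smooth A B] [CommRing D] [Algebra B D]
    [Algebra.FiniteType B D] [Module.Flat B D] (t : D)
    (h : ∀ (C : Type u) [CommRing C] [Algebra A C] (φ : B →ₐ[A] C), IsTest φ →
      letI := φ.toRingHom.toAlgebra; (1 : C) ⊗ₜ[B] t = 0) : t = 0 := by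
  classical
  letI : Algebra A D := ((algebraMap B D).comp (algebraMap A B)).toAlgebra
  haveI : IsScalarTower A B D := IsScalarTower.of_algebraMap_eq fun _ ↦ rfl
  haveI : IsNoetherianRing A := Algebra.FiniteType.isNoetherianRing ℤ A
  haveI : Algebra.FiniteType ℤ B := Algebra.FiniteType.trans (S := A) inferInstance inferInstance
  haveI : Algebra.FiniteType ℤ D := Algebra.FiniteType.trans (S := B) inferInstance inferInstance
  haveI : IsNoetherianRing D := Algebra.FiniteType.isNoetherianRing ℤ D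
  by_contra ht
  have hne : (Submodule.span D {t}).annihilator ≠ ⊤ := by
    intro htop
    have h1 : (1 : D) ∈ (Submodule.span D {t}).annihilator := htop ▸ trivial
    rw [Submodule.mem_annihilator_span_singleton, one_smul] at h1
    exact ht h1
  obtain ⟨Q, hQ, hle⟩ := Ideal.exists_le_maximal _ hne
  haveI := hQ
  let m : Ideal A := Q.comap (algebraMap A D)
  haveI : m.IsMaximal := isMaximal_comap_int (algebraMap A D) Q
  -- the family of tests
  let ι := Σ' (C : Type u) (_ : CommRing C) (_ : Algebra A C) (φ : B →ₐ[A] C), PLift (IsTest φ)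
  letI instC : ∀ i : ι, CommRing i.1 := fun i ↦ i.2.1
  letI instA : ∀ i : ι, Algebra A i.1 := fun i ↦ i.2.2.1
  letI instB : ∀ i : ι, Algebra B i.1 := fun i ↦ i.2.2.2.1.toRingHom.toAlgebra
  haveI : ∀ i : ι, IsScalarTower A B i.1 := fun i ↦
    IsScalarTower.of_algebraMap_eq fun a ↦ (i.2.2.2.1.commutes a).symm
  haveI : ∀ i : ι, Module.Flat A i.1 := fun i ↦ by
    haveI := i.2.2.2.2.down.etale
    infer_instance
  haveI : ∀ i : ι, Module.Flat A (i.1 ⊗[B] D) := fun i ↦ Module.Flat.trans A i.1 _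
  let φ : ∀ i : ι, D →ₐ[A] i.1 ⊗[B] D := fun i ↦
    (Algebra.TensorProduct.includeRight (R := B) (A := i.1) (B := D)).restrictScalars A
  have key := mem_map_pow_of_criterion m t (fun i : ι ↦ i.1 ⊗[B] D) φ
    (fun i ↦ h i.1 i.2.2.2.1 i.2.2.2.2.down) ?_
  · have hmem : t ∈ (⨅ i : ℕ, Q ^ i • ⊤ : Submodule D D) := by
      rw [Submodule.mem_iInf]
      intro i
      rw [Ideal.smul_eq_mul, Ideal.mul_top]
      exact Ideal.pow_right_mono Ideal.map_comap_le i ((Ideal.map_pow (algebraMap A D) m i) ▸ key i)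
    obtain ⟨⟨r, hr⟩, hrt⟩ := (Ideal.mem_iInf_smul_pow_eq_bot_iff Q t).mp hmem
    have h2 : (1 - r) ∈ (Submodule.span D {t}).annihilator := by
      rw [Submodule.mem_annihilator_span_singleton, sub_smul, one_smul, sub_eq_zero]
      exact hrt.symm
    have : (1 : D) ∈ Q := by simpa using Q.add_mem (hle h2) hr
    exact hQ.ne_top ((Ideal.eq_top_iff_one Q).mpr this)
  -- the criterion modulo `m`
  intro y hy
  letI : Field (A ⧸ m) := Ideal.Quotient.field m
  let mB := m.map (algebraMap A B)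
  have hmB : mB.IsRadical := by
    refine (Ideal.isRadical_iff_quotient_reduced mB).mpr ?_
    haveI : _root_.IsReduced ((A ⧸ m) ⊗[A] B) := H02CA.isReduced_of_smooth (A ⧸ m) _
    let e : (B ⧸ mB) ≃ₐ[A] (A ⧸ m) ⊗[A] B :=
      ((Algebra.TensorProduct.quotIdealMapEquivTensorQuot B m).restrictScalars A).trans
        (Algebra.TensorProduct.comm A B (A ⧸ m))
    exact isReduced_of_injective e e.injective
  rw [IsScalarTower.algebraMap_eq A B D, ← Ideal.map_map]
  refine mem_map_of_forall_maximal mB hmB y fun Q₀ hQ₀ hmQ ↦ ?_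
  haveI := hQ₀
  -- a test through `Q₀`
  haveI : m.IsMaximal := inferInstance
  letI : Field (B ⧸ Q₀) := Ideal.Quotient.field Q₀
  haveI : Algebra.FiniteType ℤ (B ⧸ Q₀) :=
    Algebra.FiniteType.of_surjective (Ideal.Quotient.mkₐ ℤ Q₀) Ideal.Quotient.mk_surjective
  haveI : Finite (B ⧸ Q₀) := H27Zeta.finite_of_field_finiteType_int _
  haveI : Algebra.FiniteType ℤ (A ⧸ m) :=
    Algebra.FiniteType.of_surjective (Ideal.Quotient.mkₐ ℤ m) Ideal.Quotient.mk_surjective
  haveI : Finite (A ⧸ m) := H27Zeta.finite_of_field_finiteType_int _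
  have hmker : ∀ a ∈ m, algebraMap A (B ⧸ Q₀) a = 0 := fun a ha ↦ by
    rw [IsScalarTower.algebraMap_apply A B (B ⧸ Q₀), Ideal.Quotient.algebraMap_eq,
      Ideal.Quotient.eq_zero_iff_mem]
    exact hmQ (Ideal.mem_map_of_mem _ ha)
  let σ : A ⧸ m →ₐ[A] B ⧸ Q₀ := Ideal.Quotient.liftₐ m (Algebra.ofId A (B ⧸ Q₀)) hmker
  letI : Algebra (A ⧸ m) (B ⧸ Q₀) := σ.toRingHom.toAlgebra
  haveI : IsScalarTower A (A ⧸ m) (B ⧸ Q₀) :=
    IsScalarTower.of_algebraMap_eq fun a ↦ (σ.commutes a).symm
  have hsep : ∀ b : B, ∃ G : Polynomial A, G.Monic ∧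
      Polynomial.aeval (Ideal.Quotient.mkₐ A Q₀ b) G = 0 ∧
      Polynomial.aeval (Ideal.Quotient.mkₐ A Q₀ b) (Polynomial.derivative G) ≠ 0 := by
    intro b
    have hi : IsIntegral (A ⧸ m) (Ideal.Quotient.mkₐ A Q₀ b) := Algebra.IsIntegral.isIntegral _
    have hs : (minpoly (A ⧸ m) (Ideal.Quotient.mkₐ A Q₀ b)).Separable :=
      PerfectField.separable_of_irreducible (minpoly.irreducible hi)
    obtain ⟨G, hG, -, hGm⟩ := Polynomial.lifts_and_degree_eq_and_monic
      (Polynomial.map_surjective _ Ideal.Quotient.mk_surjective (minpoly (A ⧸ m) (Ideal.Quotient.mkₐ A Q₀ b)) :)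
      (minpoly.monic hi)
    refine ⟨G, hGm, ?_, ?_⟩
    · rw [← Polynomial.aeval_map_algebraMap (A ⧸ m), Ideal.Quotient.algebraMap_eq, hG]
      exact minpoly.aeval _ _
    · rw [← Polynomial.aeval_map_algebraMap (A ⧸ m), Ideal.Quotient.algebraMap_eq,
        ← Polynomial.derivative_map, hG]
      exact hs.aeval_derivative_ne_zero (minpoly.aeval _ _)
  obtain ⟨C, iC, iA, ψ, χ, hψ, hχ⟩ := exists_test (Ideal.Quotient.mkₐ A Q₀) hsep
  letI i : ι := ⟨C, iC, iA, ψ, ⟨hψ⟩⟩
  rw [← tmul_one_eq_zero_iff]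
  letI : Algebra B C := ψ.toRingHom.toAlgebra
  haveI : IsScalarTower A B C := IsScalarTower.of_algebraMap_eq fun a ↦ (ψ.commutes a).symm
  let χB : C →ₐ[B] B ⧸ Q₀ := { χ.toRingHom with commutes' := fun b ↦ AlgHom.congr_fun hχ b }
  let M : C ⊗[B] D →ₐ[B] (B ⧸ Q₀) ⊗[B] D := Algebra.TensorProduct.map χB (AlgHom.id B D)
  have h1 : m.map (algebraMap A (C ⊗[B] D)) ≤ RingHom.ker M.toRingHom :=
    Ideal.map_le_iff_le_comap.mpr fun a ha ↦ by
      show M (algebraMap A (C ⊗[B] D) a) = 0
      rw [IsScalarTower.algebraMap_apply A B (C ⊗[B] D), M.commutes,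
        Algebra.TensorProduct.algebraMap_apply, ← IsScalarTower.algebraMap_apply A B (B ⧸ Q₀),
        hmker a ha, TensorProduct.zero_tmul]
  have h2 : M ((1 : C) ⊗ₜ[B] y) = 0 := h1 (hy i)
  simpa [M, Algebra.TensorProduct.map_tmul] using h2

/-- **Schematic density of étale subschemes**, after a flat base change of finite presentation. -/
theorem eq_zero_of_forall_test_flat {A B D : Type u} [CommRing A] [CommRing B] [Algebra A B]
    [Algebra.Smooth A B] [CommRing D] [Algebra B D] [Algebra.FinitePresentation B D] [Module.Flat B D]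
    (t : D)
    (h : ∀ (C : Type u) [CommRing C] [Algebra A C] (φ : B →ₐ[A] C), IsTest φ →
      letI := φ.toRingHom.toAlgebra; (1 : C) ⊗ₜ[B] t = 0) : t = 0 := by
  classical
  obtain ⟨R, hR, D₀, _, _, hfp, hflat, ⟨eD⟩⟩ := H13Flat.exists_flat_stage B D
  haveI := hfp
  haveI := hflat
  obtain ⟨A₁, B₁, _, _, hA₁, hsm₁, ⟨e⟩⟩ := Algebra.Smooth.exists_subalgebra_fg (R := ℤ) (A := A) (B := B)
  haveI := hsm₁
  obtain ⟨T, hT⟩ := TensorProduct.exists_finset (eD.symm t)
  obtain ⟨G, hG⟩ := hR
  let need : Finset B := G ∪ T.image Prod.fst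
  choose S hS using fun b : B ↦ TensorProduct.exists_finset (e b)
  let A₀ : Subalgebra ℤ A :=
    A₁ ⊔ Algebra.adjoin ℤ ((need.biUnion fun b ↦ (S b).image Prod.fst : Finset A) : Set A)
  have hA₀ : A₀.FG := hA₁.sup (Subalgebra.fg_adjoin_finset _)
  haveI : Algebra.FiniteType ℤ A₀ := (Subalgebra.fg_iff_finiteType A₀).mp hA₀
  letI : Algebra A₁ A₀ := (Subalgebra.inclusion (le_sup_left : A₁ ≤ A₀)).toRingHom.toAlgebra
  haveI : IsScalarTower A₁ A₀ A := IsScalarTower.of_algebraMap_eq fun _ ↦ rfl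
  let B₀ := A₀ ⊗[A₁] B₁
  haveI : Algebra.Smooth A₀ B₀ := inferInstance
  let d : A ⊗[A₀] B₀ ≃ₐ[A] B := (Algebra.TensorProduct.cancelBaseChange A₁ A₀ A A B₁).trans e.symm
  let j : B₀ →ₐ[A₀] B :=
    (d.toAlgHom.restrictScalars A₀).comp
      (Algebra.TensorProduct.includeRight (R := A₀) (A := A) (B := B₀))
  have hj : Function.Injective j := d.injective.comp
    (Algebra.TensorProduct.includeRight_injective Subtype.val_injective)
  have hmem : ∀ b ∈ need, b ∈ (j.toRingHom.toIntAlgHom).range := by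
    intro b hb
    refine ⟨∑ x ∈ (S b).attach, (⟨x.1.1, (le_sup_right : _ ≤ A₀) (Algebra.subset_adjoin
      (Finset.mem_biUnion.mpr ⟨b, hb, Finset.mem_image_of_mem _ x.2⟩))⟩ : A₀) ⊗ₜ[A₁] x.1.2, ?_⟩
    apply e.injective
    show e (e.symm (Algebra.TensorProduct.cancelBaseChange A₁ A₀ A A B₁ (1 ⊗ₜ _))) = e b
    rw [AlgEquiv.apply_symm_apply, hS b, ← Finset.sum_attach (S b), TensorProduct.tmul_sum, map_sum]
    refine Finset.sum_congr rfl fun x _ ↦ ?_
    rw [Algebra.TensorProduct.cancelBaseChange_tmul]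
    congr 1
    exact (Algebra.smul_def _ _).trans (mul_one _)
  have hRle : R ≤ (j.toRingHom.toIntAlgHom).range := by
    rw [← hG, Algebra.adjoin_le_iff]
    exact fun b hb ↦ hmem b (Finset.mem_union_left _ hb)
  let jR : R →+* B₀ :=
    ((AlgEquiv.ofInjective j.toRingHom.toIntAlgHom hj).symm.toAlgHom.comp
      (Subalgebra.inclusion hRle)).toRingHom
  have hjR : ∀ r : R, j (jR r) = r := fun r ↦
    congrArg Subtype.val ((AlgEquiv.ofInjective j.toRingHom.toIntAlgHom hj).apply_symm_apply
      (Subalgebra.inclusion hRle r))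
  letI : Algebra R B₀ := jR.toAlgebra
  let D' := B₀ ⊗[R] D₀
  haveI : Algebra.FinitePresentation B₀ D' := inferInstance
  haveI : Module.Flat B₀ D' := inferInstance
  have hmemT : ∀ x ∈ T, ∃ b₀ : B₀, j b₀ = x.1 := fun x hx ↦
    hmem x.1 (Finset.mem_union_right _ (Finset.mem_image_of_mem _ hx))
  choose b₀ hb₀ using fun x : ↥T ↦ hmemT x.1 x.2
  let t₀ : D' := ∑ x ∈ T.attach, b₀ x ⊗ₜ[R] x.1.2
  let jL : B₀ →ₗ[R] B :=
    { toFun := j
      map_add' := map_add j
      map_smul' := fun r b ↦ by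
        show j (jR r * b) = (r : B) * j b
        rw [map_mul, hjR] }
  have ht : eD (jL.rTensor D₀ t₀) = t := by
    rw [← eD.apply_symm_apply t, hT, ← Finset.sum_attach T, map_sum, map_sum, map_sum]
    refine Finset.sum_congr rfl fun x _ ↦ ?_
    rw [LinearMap.rTensor_tmul]
    show eD (j (b₀ x) ⊗ₜ x.1.2) = _
    rw [hb₀]
  suffices h0 : t₀ = 0 by rw [← ht, h0, map_zero, map_zero]
  refine eq_zero_of_forall_test_flat_of_finiteType (A := A₀) (B := B₀) (D := D') t₀
    fun C₀ _ _ φ₀ hφ₀ ↦ ?_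
  haveI := hφ₀.etale
  let C := A ⊗[A₀] C₀
  let φ : B →ₐ[A] C :=
    (Algebra.TensorProduct.map (AlgHom.id A A) φ₀).comp d.symm.toAlgHom
  have htest : IsTest φ := isTest_baseChange φ₀ hφ₀ d
  letI : Algebra B₀ C₀ := φ₀.toRingHom.toAlgebra
  letI : Algebra B C := φ.toRingHom.toAlgebra
  letI : Algebra R C₀ := ((algebraMap B₀ C₀).comp jR).toAlgebra
  haveI : IsScalarTower R B₀ C₀ := IsScalarTower.of_algebraMap_eq fun _ ↦ rfl
  letI : Algebra R C := ((algebraMap B C).comp (algebraMap R B)).toAlgebra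
  haveI : IsScalarTower R B C := IsScalarTower.of_algebraMap_eq fun _ ↦ rfl
  have hφj : ∀ b : B₀, φ (j b) = (1 : A) ⊗ₜ[A₀] φ₀ b := fun b ↦ by
    show Algebra.TensorProduct.map (AlgHom.id A A) φ₀ (d.symm (d (1 ⊗ₜ b))) = _
    rw [AlgEquiv.symm_apply_apply]
    rfl
  let ι : C₀ →ₗ[R] C :=
    { toFun := fun c ↦ (1 : A) ⊗ₜ[A₀] c
      map_add' := TensorProduct.tmul_add _
      map_smul' := fun r c ↦ by
        show (1 : A) ⊗ₜ[A₀] (φ₀ (jR r) * c) = φ (r : B) * ((1 : A) ⊗ₜ[A₀] c)
        rw [← hjR r, hφj, Algebra.TensorProduct.tmul_mul_tmul, one_mul] }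
  have hι : Function.Injective ι :=
    Algebra.TensorProduct.includeRight_injective (A := A) (B := C₀) Subtype.val_injective
  have hC := h C φ htest
  -- compare
  apply (Algebra.TensorProduct.cancelBaseChange R B₀ C₀ C₀ D₀).injective
  rw [map_zero]
  apply Module.Flat.rTensor_preserves_injective_linearMap (M := D₀) ι hι
  rw [map_zero]
  let u : C ⊗[B] D →ₐ[C] C ⊗[R] D₀ :=
    ((Algebra.TensorProduct.congr (AlgEquiv.refl : C ≃ₐ[C] C) eD.symm).trans
      (Algebra.TensorProduct.cancelBaseChange R B C C D₀)).toAlgHom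
  have hu : u ((1 : C) ⊗ₜ[B] t) = 0 := by rw [hC, map_zero]
  refine Eq.trans ?_ hu
  rw [← ht]
  show _ = Algebra.TensorProduct.cancelBaseChange R B C C D₀
    ((1 : C) ⊗ₜ[B] eD.symm (eD (jL.rTensor D₀ t₀)))
  rw [AlgEquiv.symm_apply_apply]
  simp only [t₀, map_sum, TensorProduct.tmul_sum]
  refine Finset.sum_congr rfl fun x _ ↦ ?_
  rw [LinearMap.rTensor_tmul, Algebra.TensorProduct.cancelBaseChange_tmul,
    Algebra.TensorProduct.cancelBaseChange_tmul, LinearMap.rTensor_tmul]
  congr 1
  show (1 : A) ⊗ₜ[A₀] (φ₀ (b₀ x) * 1) = φ (j (b₀ x)) * 1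
  rw [mul_one, mul_one, hφj]

end Groth.Agent.H14EtSub
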