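import Mathlib
import Groth.Agent.H14AlgSt.SliceRing
import Groth.Agent.H27Zeta.HomBound
import Groth.Agent.H02CA.SmoothRegular

/-!
# Subschemes of a smooth algebra which are étale over the base

For a smooth `A`-algebra `B` the `A`-algebra maps `φ : B → C` with `C` étale over `A` and
`Spec C → Spec B` an immersion are called tests.  Here: a closed point of a fibre over a maximal
ideal with finite residue field lies on a test, and consequently the tests are jointly injective
(schematic density of étale subschemes, EGA IV 17.16 / 11.10).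
-/

set_option autoImplicit false
set_option linter.style.haveILetI false
set_option backward.isDefEq.respectTransparency false
set_option backward.isDefEq.respectTransparency.types false

universe u

open CategoryTheory AlgebraicGeometry Polynomial TensorProduct

namespace Groth.Agent.H14EtSub

/-- An `A`-morphism out of `B` defining a subscheme of `Spec B` étale over `A`. -/
structure IsTest {A B C : Type u} [CommRing A] [CommRing B] [CommRing C] [Algebra A B] [Algebra A C]
    (φ : B →ₐ[A] C) : Prop where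
  etale : Algebra.Etale A C
  immersion : IsImmersion (Spec.map (CommRingCat.ofHom φ.toRingHom))

/-- A point whose coordinates are separable over the base lies on a test. -/
theorem exists_test {A B L : Type u} [CommRing A] [CommRing B] [Algebra A B] [Algebra.Smooth A B]
    [Field L] [Algebra A L] (ρ : B →ₐ[A] L)
    (hsep : ∀ b : B, ∃ G : A[X], G.Monic ∧ aeval (ρ b) G = 0 ∧ aeval (ρ b) (derivative G) ≠ 0) :
    ∃ (C : Type u) (_ : CommRing C) (_ : Algebra A C) (φ : B →ₐ[A] C) (χ : C →ₐ[A] L),
      IsTest φ ∧ χ.comp φ = ρ := by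
  classical
  haveI : (RingHom.ker ρ).IsPrime := RingHom.ker_isPrime ρ
  obtain ⟨κ, hκ, v, g, hg, het⟩ :=
    H14AlgSt.exists_etale_coordinates (B := A) (id : B → B)
      (KaehlerDifferential.span_range_derivation A B) (RingHom.ker ρ)
  haveI := hκ
  haveI : Fintype κ := Fintype.ofFinite κ
  choose G hGm hG0 hG1 using fun i ↦ hsep (v i)
  let Bg := Localization.Away g
  let w : κ → Bg := fun i ↦ algebraMap B Bg (v i)
  let I : Ideal Bg := Ideal.span (Set.range fun i ↦ aeval (w i) (G i))
  let r : Bg := ∏ i, aeval (w i) (derivative (G i))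
  let q : Bg →ₐ[A] Bg ⧸ I := Ideal.Quotient.mkₐ A I
  let C := Localization.Away (q r)
  let toC : Bg →ₐ[A] C := (IsScalarTower.toAlgHom A (Bg ⧸ I) C).comp q
  have hwr : ∀ i, IsUnit (toC (aeval (w i) (derivative (G i)))) := fun i ↦
    isUnit_of_dvd_unit (map_dvd toC (Finset.dvd_prod_of_mem
        (fun i ↦ aeval (w i) (derivative (G i))) (Finset.mem_univ i)))
      (IsLocalization.Away.algebraMap_isUnit (q r) : IsUnit (algebraMap (Bg ⧸ I) C (q r)))
  have htoC0 : ∀ i, toC (aeval (w i) (G i)) = 0 := fun i ↦ by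
    have h : q (aeval (w i) (G i)) = 0 :=
      Ideal.Quotient.eq_zero_iff_mem.mpr (Ideal.subset_span ⟨i, rfl⟩)
    show algebraMap (Bg ⧸ I) C (q (aeval (w i) (G i))) = 0
    rw [h, map_zero]
  -- lifting of `A`-morphisms out of `C` along square-zero thickenings
  haveI : Algebra.FormallyEtale A C := by
    rw [Algebra.FormallyEtale.iff_comp_bijective]
    intro R _ _ J hJ
    let P := MvPolynomial κ A
    letI : Algebra P Bg := (MvPolynomial.aeval (R := A) w).toRingHom.toAlgebra
    haveI : Algebra.Etale P Bg := het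
    haveI : IsScalarTower A P Bg :=
      IsScalarTower.of_algebraMap_eq fun a ↦ ((MvPolynomial.aeval w).commutes a).symm
    have hsq : ∀ e ∈ J, e ^ 2 = 0 := fun e he ↦ by
      have := Ideal.pow_mem_pow he 2
      rwa [hJ, Ideal.mem_bot] at this
    have hJnil : J ≤ nilradical R := fun e he ↦ ⟨2, hsq e he⟩
    have hunit : ∀ (x : R), IsUnit (Ideal.Quotient.mk J x) → IsUnit x := fun x hx ↦ by
      obtain ⟨y, hy⟩ := hx.exists_right_inv
      obtain ⟨y, rfl⟩ := Ideal.Quotient.mk_surjective y
      rw [← map_mul, ← map_one (Ideal.Quotient.mk J), Ideal.Quotient.eq] at hy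
      have := IsNilpotent.isUnit_one_add (hJnil hy : IsNilpotent (x * y - 1))
      rw [add_sub_cancel] at this
      exact isUnit_of_mul_isUnit_left this
    constructor
    · intro f₁ f₂ hf
      have hfd : ∀ c, f₁ c - f₂ c ∈ J := fun c ↦ Ideal.Quotient.eq.mp (AlgHom.congr_fun hf c)
      have hw : ∀ i, f₁ (toC (w i)) = f₂ (toC (w i)) := fun i ↦ by
        have h0 : aeval (toC (w i)) (G i) = 0 := by
          rw [Polynomial.aeval_algHom_apply, htoC0]
        have he := Polynomial.aeval_add_of_sq_eq_zero (G i) (f₂ (toC (w i)))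
          (f₁ (toC (w i)) - f₂ (toC (w i))) (hsq _ (hfd _))
        rw [add_sub_cancel, Polynomial.aeval_algHom_apply f₁ (toC (w i)),
          Polynomial.aeval_algHom_apply f₂ (toC (w i)) (G i), h0,
          map_zero, map_zero, zero_add, Polynomial.aeval_algHom_apply f₂] at he
        have hu : IsUnit (f₂ (aeval (toC (w i)) (derivative (G i)))) := by
          rw [Polynomial.aeval_algHom_apply]
          exact ((hwr i).map f₂)
        exact sub_eq_zero.mp (hu.mul_right_eq_zero.mp he.symm)
      -- both agree on `P`, hence on `Bg`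
      let gR : P →+* R := (MvPolynomial.aeval fun i ↦ f₁ (toC (w i))).toRingHom
      letI : Algebra P R := gR.toAlgebra
      have hP : ∀ (f : C →ₐ[A] R), (∀ i, f (toC (w i)) = f₁ (toC (w i))) → ∀ x : P,
          f (toC (algebraMap P Bg x)) = algebraMap P R x := fun f hfi x ↦ by
        have : ((f.comp toC).comp (MvPolynomial.aeval w)) =
            MvPolynomial.aeval fun i ↦ f₁ (toC (w i)) :=
          MvPolynomial.algHom_ext fun i ↦ by simp [hfi]
        exact AlgHom.congr_fun this x
      let h₁ : Bg →ₐ[P] R := { (f₁.comp toC).toRingHom with commutes' := hP f₁ fun _ ↦ rfl }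
      let h₂ : Bg →ₐ[P] R := { (f₂.comp toC).toRingHom with commutes' := hP f₂ fun i ↦ (hw i).symm }
      have h12 : h₁ = h₂ :=
        Algebra.FormallyUnramified.comp_injective J hJ (AlgHom.ext fun x ↦ Ideal.Quotient.eq.mpr (hfd _))
      apply AlgHom.coe_ringHom_injective
      refine IsLocalization.ringHom_ext (Submonoid.powers (q r)) (Ideal.Quotient.ringHom_ext ?_)
      exact RingHom.ext fun x ↦ AlgHom.congr_fun h12 x
    · intro f
      let π := Ideal.Quotient.mkₐ A J
      choose y₀ hy₀ using fun i ↦ Ideal.Quotient.mk_surjective (I := J) (f (toC (w i)))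
      have hd : ∀ i, IsUnit (aeval (y₀ i) (derivative (G i))) := fun i ↦ hunit _ <| by
        show IsUnit (π _)
        rw [← Polynomial.aeval_algHom_apply, show π (y₀ i) = f (toC (w i)) from hy₀ i,
          Polynomial.aeval_algHom_apply, Polynomial.aeval_algHom_apply]
        exact (hwr i).map f
      let y : κ → R := fun i ↦ y₀ i + -(↑(hd i).unit⁻¹ * aeval (y₀ i) (G i))
      have hm : ∀ i, ↑(hd i).unit⁻¹ * aeval (y₀ i) (G i) ∈ J := fun i ↦ J.mul_mem_left _ <| by
        refine Ideal.Quotient.eq_zero_iff_mem.mp ?_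
        show π (aeval (y₀ i) (G i)) = 0
        rw [← Polynomial.aeval_algHom_apply, show π (y₀ i) = f (toC (w i)) from hy₀ i,
          Polynomial.aeval_algHom_apply, Polynomial.aeval_algHom_apply]
        rw [htoC0, map_zero]
      have hy : ∀ i, aeval (y i) (G i) = 0 := fun i ↦ by
        rw [Polynomial.aeval_add_of_sq_eq_zero _ _ _ (hsq _ (J.neg_mem (hm i))), mul_neg, ← mul_assoc,
          IsUnit.mul_val_inv, one_mul, add_neg_cancel]
      have hπy : ∀ i, π (y i) = f (toC (w i)) := fun i ↦ by
        show π (y₀ i + _) = _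
        rw [map_add, show π (-(↑(hd i).unit⁻¹ * aeval (y₀ i) (G i))) = 0 from
          Ideal.Quotient.eq_zero_iff_mem.mpr (J.neg_mem (hm i)), add_zero]
        exact hy₀ i
      letI : Algebra P R := (MvPolynomial.aeval (R := A) y).toRingHom.toAlgebra
      haveI : IsScalarTower A P R :=
        IsScalarTower.of_algebraMap_eq fun a ↦ ((MvPolynomial.aeval y).commutes a).symm
      have hcomm : ∀ x : P, f (toC (algebraMap P Bg x)) = algebraMap P (R ⧸ J) x := fun x ↦ by
        have : ((f.comp toC).comp (MvPolynomial.aeval w)) = π.comp (MvPolynomial.aeval y) :=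
          MvPolynomial.algHom_ext fun i ↦ by
            simp only [AlgHom.comp_apply, MvPolynomial.aeval_X]
            exact (hπy i).symm
        exact AlgHom.congr_fun this x
      let fb : Bg →ₐ[P] R ⧸ J := { (f.comp toC).toRingHom with commutes' := hcomm }
      obtain ⟨hb, hhb⟩ := Algebra.FormallySmooth.comp_surjective P Bg J hJ fb
      let hA : Bg →ₐ[A] R := hb.restrictScalars A
      have hhb' : ∀ x, π (hA x) = f (toC x) := fun x ↦ AlgHom.congr_fun hhb x
      have hwy : ∀ i, hA (w i) = y i := fun i ↦ by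
        have := hb.commutes (MvPolynomial.X i)
        show hb (w i) = y i
        have e1 : algebraMap P Bg (MvPolynomial.X i) = w i := MvPolynomial.aeval_X w i
        have e2 : algebraMap P R (MvPolynomial.X i) = y i := MvPolynomial.aeval_X y i
        rwa [e1, e2] at this
      have hI : ∀ x ∈ I, hA x = 0 := fun x hx ↦ by
        refine (Ideal.span_le (I := RingHom.ker hA.toRingHom)).mpr ?_ hx
        rintro _ ⟨i, rfl⟩
        show hA (aeval (w i) (G i)) = 0
        rw [← Polynomial.aeval_algHom_apply, hwy, hy]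
      let hQ : Bg ⧸ I →ₐ[A] R := Ideal.Quotient.liftₐ I hA hI
      have hr : IsUnit (hQ (q r)) := hunit _ <| by
        show IsUnit (π (hA r))
        rw [hhb']
        exact (IsLocalization.Away.algebraMap_isUnit (q r)).map f
      let hC : C →ₐ[A] R := IsLocalization.liftAlgHom (M := Submonoid.powers (q r)) (f := hQ) (by
        rintro ⟨_, n, rfl⟩; simp only [map_pow]; exact hr.pow n)
      refine ⟨hC, ?_⟩
      apply AlgHom.coe_ringHom_injective
      refine IsLocalization.ringHom_ext (Submonoid.powers (q r)) (Ideal.Quotient.ringHom_ext ?_)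
      refine RingHom.ext fun x ↦ ?_
      show π (hC (algebraMap _ C (q x))) = f (toC x)
      rw [show hC (algebraMap _ C (q x)) = hQ (q x) from IsLocalization.lift_eq _ _]
      exact hhb' x
  haveI : Algebra.FinitePresentation A Bg :=
    Algebra.FinitePresentation.trans A B Bg
  haveI : Algebra.FinitePresentation A (Bg ⧸ I) :=
    Algebra.FinitePresentation.quotient (Submodule.fg_span (Set.finite_range _))
  haveI : Algebra.FinitePresentation A C := Algebra.FinitePresentation.trans A (Bg ⧸ I) C
  let φ : B →ₐ[A] C := toC.comp (IsScalarTower.toAlgHom A B Bg)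
  -- the point
  let ρg : Bg →ₐ[A] L := IsLocalization.liftAlgHom (M := Submonoid.powers g) (f := ρ) (by
    rintro ⟨_, n, rfl⟩; simp only [map_pow]; exact (isUnit_iff_ne_zero.mpr hg).pow n)
  have hρg : ∀ b, ρg (algebraMap B Bg b) = ρ b := fun b ↦ IsLocalization.lift_eq _ _
  let ρI : Bg ⧸ I →ₐ[A] L := Ideal.Quotient.liftₐ I ρg fun x hx ↦ by
    refine (Ideal.span_le (I := RingHom.ker ρg.toRingHom)).mpr ?_ hx
    rintro _ ⟨i, rfl⟩
    show ρg (aeval (w i) (G i)) = 0
    rw [← Polynomial.aeval_algHom_apply, hρg]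
    exact hG0 i
  have hρr : IsUnit (ρI (q r)) := by
    show IsUnit (ρg r)
    rw [isUnit_iff_ne_zero, map_prod, Finset.prod_ne_zero_iff]
    intro i _
    rw [← Polynomial.aeval_algHom_apply, hρg]
    exact hG1 i
  let χ : C →ₐ[A] L := IsLocalization.liftAlgHom (M := Submonoid.powers (q r)) (f := ρI) (by
    rintro ⟨_, n, rfl⟩; simp only [map_pow]; exact hρr.pow n)
  refine ⟨C, inferInstance, inferInstance, φ, χ, ⟨⟨inferInstance, inferInstance⟩, ?_⟩, ?_⟩
  · have e : CommRingCat.ofHom φ.toRingHom = CommRingCat.ofHom (algebraMap B Bg) ≫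
        CommRingCat.ofHom (Ideal.Quotient.mk I) ≫ CommRingCat.ofHom (algebraMap (Bg ⧸ I) C) := rfl
    rw [e, Spec.map_comp, Spec.map_comp]
    haveI : IsOpenImmersion (Spec.map (CommRingCat.ofHom (algebraMap B Bg))) :=
      IsOpenImmersion.of_isLocalization g
    haveI : IsOpenImmersion (Spec.map (CommRingCat.ofHom (algebraMap (Bg ⧸ I) C))) :=
      IsOpenImmersion.of_isLocalization (q r)
    haveI : IsClosedImmersion (Spec.map (CommRingCat.ofHom (Ideal.Quotient.mk I))) :=
      IsClosedImmersion.spec_of_surjective _ Ideal.Quotient.mk_surjective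
    infer_instance
  · ext b
    show χ (algebraMap _ C (q (algebraMap B Bg b))) = ρ b
    rw [show χ (algebraMap _ C (q (algebraMap B Bg b))) = ρI (q (algebraMap B Bg b)) from
      IsLocalization.lift_eq _ _]
    exact hρg b

/-- Over a ring of finite type over `ℤ`, tests detect every element modulo a maximal ideal. -/
theorem mem_map_of_forall_test {A B : Type u} [CommRing A] [Algebra.FiniteType ℤ A] [CommRing B]
    [Algebra A B] [Algebra.Smooth A B] (m : Ideal A) [m.IsMaximal] (y : B)
    (h : ∀ (C : Type u) [CommRing C] [Algebra A C] (φ : B →ₐ[A] C), IsTest φ →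
      φ y ∈ m.map (algebraMap A C)) : y ∈ m.map (algebraMap A B) := by
  classical
  haveI : IsJacobsonRing ℤ := Groth.Agent.S9612.result
  haveI : IsJacobsonRing A := isJacobsonRing_of_finiteType (A := ℤ)
  haveI : IsJacobsonRing B := isJacobsonRing_of_finiteType (A := A)
  letI : Field (A ⧸ m) := Ideal.Quotient.field m
  let mB := m.map (algebraMap A B)
  haveI : IsReduced (B ⧸ mB) := by
    haveI : IsReduced ((A ⧸ m) ⊗[A] B) := H02CA.isReduced_of_smooth (A ⧸ m) _
    let e : (B ⧸ mB) ≃ₐ[A] (A ⧸ m) ⊗[A] B :=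
      ((Algebra.TensorProduct.quotIdealMapEquivTensorQuot B m).restrictScalars A).trans
        (Algebra.TensorProduct.comm A B (A ⧸ m))
    exact isReduced_of_injective e e.injective
  refine Ideal.Quotient.eq_zero_iff_mem.mp (?_ : Ideal.Quotient.mk mB y = 0)
  have hjac : (⊥ : Ideal (B ⧸ mB)).jacobson = ⊥ :=
    IsJacobsonRing.out inferInstance Ideal.isRadical_bot
  rw [← Ideal.mem_bot, ← hjac, Ideal.jacobson, Ideal.mem_sInf]
  rintro Q ⟨-, hQ⟩
  let Q' : Ideal B := Q.comap (Ideal.Quotient.mk mB)
  haveI : Q'.IsMaximal := Ideal.comap_isMaximal_of_surjective _ Ideal.Quotient.mk_surjective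
  letI : Field (B ⧸ Q') := Ideal.Quotient.field Q'
  haveI : Algebra.FiniteType ℤ B := Algebra.FiniteType.trans (S := A) inferInstance inferInstance
  haveI : Algebra.FiniteType ℤ (B ⧸ Q') :=
    Algebra.FiniteType.of_surjective (Ideal.Quotient.mkₐ ℤ Q') Ideal.Quotient.mk_surjective
  haveI : Finite (B ⧸ Q') := H27Zeta.finite_of_field_finiteType_int _
  haveI : Algebra.FiniteType ℤ (A ⧸ m) :=
    Algebra.FiniteType.of_surjective (Ideal.Quotient.mkₐ ℤ m) Ideal.Quotient.mk_surjective
  haveI : Finite (A ⧸ m) := H27Zeta.finite_of_field_finiteType_int _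
  have hmQ : m.map (algebraMap A B) ≤ Q' := fun x hx ↦ by
    show Ideal.Quotient.mk mB x ∈ Q
    rw [Ideal.Quotient.eq_zero_iff_mem.mpr hx]; exact zero_mem _
  let σ : A ⧸ m →ₐ[A] B ⧸ Q' :=
    Ideal.Quotient.liftₐ m (Algebra.ofId A (B ⧸ Q')) fun a ha ↦ by
      show algebraMap A (B ⧸ Q') a = 0
      rw [IsScalarTower.algebraMap_apply A B (B ⧸ Q'), Ideal.Quotient.algebraMap_eq,
        Ideal.Quotient.eq_zero_iff_mem]
      exact hmQ (Ideal.mem_map_of_mem _ ha)
  letI : Algebra (A ⧸ m) (B ⧸ Q') := σ.toRingHom.toAlgebra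
  haveI : IsScalarTower A (A ⧸ m) (B ⧸ Q') :=
    IsScalarTower.of_algebraMap_eq fun a ↦ (σ.commutes a).symm
  let ρ : B →ₐ[A] B ⧸ Q' := Ideal.Quotient.mkₐ A Q'
  have hsep : ∀ b : B, ∃ G : A[X], G.Monic ∧ aeval (ρ b) G = 0 ∧ aeval (ρ b) (derivative G) ≠ 0 := by
    intro b
    have hi : IsIntegral (A ⧸ m) (ρ b) := Algebra.IsIntegral.isIntegral _
    have hs : (minpoly (A ⧸ m) (ρ b)).Separable :=
      PerfectField.separable_of_irreducible (minpoly.irreducible hi)
    obtain ⟨G, hG, -, hGm⟩ := Polynomial.lifts_and_degree_eq_and_monic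
      (Polynomial.map_surjective _ Ideal.Quotient.mk_surjective (minpoly (A ⧸ m) (ρ b)) :)
      (minpoly.monic hi)
    refine ⟨G, hGm, ?_, ?_⟩
    · rw [← Polynomial.aeval_map_algebraMap (A ⧸ m), Ideal.Quotient.algebraMap_eq, hG]
      exact minpoly.aeval _ _
    · rw [← Polynomial.aeval_map_algebraMap (A ⧸ m), Ideal.Quotient.algebraMap_eq,
        ← Polynomial.derivative_map, hG]
      exact hs.aeval_derivative_ne_zero (minpoly.aeval _ _)
  obtain ⟨C, _, _, φ, χ, hφ, hχ⟩ := exists_test ρ hsep
  have h1 : χ (φ y) = 0 := by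
    have hle : m.map (algebraMap A C) ≤ RingHom.ker χ.toRingHom := Ideal.map_le_iff_le_comap.mpr fun a ha ↦ by
      show χ (algebraMap A C a) = 0
      rw [χ.commutes, IsScalarTower.algebraMap_apply A B (B ⧸ Q'), Ideal.Quotient.algebraMap_eq,
        Ideal.Quotient.eq_zero_iff_mem]
      exact hmQ (Ideal.mem_map_of_mem _ ha)
    exact hle (h C φ hφ)
  rw [← AlgHom.comp_apply, hχ] at h1
  exact (Ideal.Quotient.eq_zero_iff_mem.mp h1 : y ∈ Q')

end Groth.Agent.H14EtSub
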